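import Groth.Agent.Lib.LocalPic7.Main
import Groth.Agent.Lib.ParaLocal.Bwd
import Groth.Agent.Lib.ParaLocal.Fwd
import Groth.Agent.Lib.PicExt.Extend
import Groth.Agent.Lib.UFDPunct.Local

/-!
# Extending invertible modules across isolated points with trivial local Picard groups
-/

set_option autoImplicit false
set_option backward.isDefEq.respectTransparency false
set_option linter.style.haveILetI false

universe u

open CategoryTheory CategoryTheory.Limits AlgebraicGeometry TopologicalSpace IsLocalRing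
open GrothLib.InvExt (IsGen mres)

noncomputable section

namespace GrothLib.LocalPic7

/-- Triviality of the Picard group of a punctured spectrum is invariant under isomorphisms of rings. -/
theorem picTrivial_punctured_congr {R S : Type u} [CommRing R] [IsLocalRing R] [CommRing S] [IsLocalRing S]
    (e : R ≃+* S) (h : ParaF.PicTrivial (FEt.puncturedSpec R : Scheme.{u})) :
    ParaF.PicTrivial (FEt.puncturedSpec S : Scheme.{u}) := by
  obtain ⟨j, H, -⟩ := SGA2Para.exists_isPullback_punctured e.toRingHom e.surjective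
  haveI : IsIso (Spec.map (CommRingCat.ofHom e.toRingHom)) :=
    inferInstanceAs (IsIso (Spec.map e.toCommRingCatIso.hom))
  haveI : IsIso j := H.isIso_fst_of_isIso
  intro L hL
  obtain ⟨η⟩ := h ((Scheme.Modules.pullback (inv j)).obj L) (Ample.isInvertible_pullback (inv j) hL)
  exact ⟨((Scheme.Modules.pullbackComp j (inv j)).app L ≪≫
    (Scheme.Modules.pullbackCongr (IsIso.hom_inv_id j)).app L ≪≫ (Scheme.Modules.pullbackId _).app L).symm ≪≫
    (Scheme.Modules.pullback j).mapIso η ≪≫ ParaLocal.pullUnit j⟩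

/-- An invertible module extends across isolated points with trivial local Picard groups. -/
theorem exists_extension_isolated {X : Scheme.{u}} [IsLocallyNoetherian X] (U : X.Opens)
    {N : (U : Scheme.{u}).Modules} (hN : PicF.IsInvertible N)
    (hiso : ∀ x : X, x ∉ U → ∃ V : X.Opens, IsAffineOpen V ∧ x ∈ V ∧ ∀ y ∈ V, y ∉ U → y = x)
    (hPic : ∀ x : X, x ∉ U → ParaF.PicTrivial (FEt.puncturedSpec (X.presheaf.stalk x) : Scheme.{u})) :
    ∃ L : X.Modules, PicF.IsInvertible L ∧ Nonempty (L.restrict U.ι ≅ N) := by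
  let M := (Scheme.Modules.pushforward U.ι).obj N
  have h : ∀ x : X, ∃ (D : X.Opens) (E : Γ(M, D ⊓ U)), x ∈ D ∧ IsGen M (D ⊓ U) E ∧ ∀ y ∈ D, y ∉ U → y = x := by
    intro x
    by_cases hx : x ∈ U
    · obtain ⟨V, e, hxV, hVU, he⟩ := InvExt.exists_gen_nhd_pushforward N hN hx
      exact ⟨V, mres M inf_le_left e, hxV, he.restrict inf_le_left, fun y hy hyU => absurd (hVU hy) hyU⟩
    · obtain ⟨V', hV', hxV', honly⟩ := hiso x hx
      have hgen : ∀ z : X, z ⤳ x → z ≠ x → z ∈ U ⊓ V' := fun z hz hzx =>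
        ⟨by_contra fun hzU => hzx (honly z (hz.mem_open V'.2 hxV') hzU), hz.mem_open V'.2 hxV'⟩
      obtain ⟨Λ, hΛ, e, hΛgen, hΛe⟩ := ParaLocal.exists_gen_punctured M hV' hxV' (inf_le_right : U ⊓ V' ≤ V')
        (fun h => hx h.1) hgen (fun w hw => by
          obtain ⟨V, e, hw', -, he⟩ := InvExt.exists_gen_nhd_pushforward N hN hw.1
          exact ⟨V, e, hw', he⟩) (hPic x hx)
      obtain ⟨W'', -, hW''V', hxW'', hspec⟩ := GrothLib.Depth.exists_nhd_specializes (X := X)
        (Λ : Set X)ᶜ Λ.2.isClosed_compl (x := x)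
        (fun z hz hzx => by_contra fun hne => hz (hΛgen z hzx hne)) hxV'
      have hle : W'' ⊓ U ≤ Λ := fun z hz => by_contra fun hzΛ =>
        hx ((hspec z hzΛ hz.1).mem_open U.2 hz.2)
      exact ⟨W'', mres M hle (mres M hΛ e), hxW'', hΛe.restrict hle,
        fun y hy hyU => honly y (hW''V' hy) hyU⟩
  choose D E hxD hE hD using h
  let P : PicExt.Data N :=
    { ι := X, D := D, E := E, gen := hE
      cover := eq_top_iff.2 fun y _ => Opens.mem_iSup.2 ⟨y, hxD y⟩
      disjoint := fun i j hij y hy => by_contra fun hyU => hij ((hD i y hy.1 hyU).symm.trans (hD j y hy.2 hyU)) }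
  exact ⟨P.cocycle.twist 1, P.cocycle.isInvertible_twist 1, P.nonempty_restrict_iso⟩

variable {A : Type u} [CommRing A] [IsNoetherianRing A]

/-- A prime all of whose non-maximal overprimes avoid `t` is maximal among the primes avoiding `t`. -/
theorem eq_of_specializations_avoid [IsLocalRing A] {t : A} (ht : t ∈ maximalIdeal A) {q q' : Ideal A}
    [q.IsPrime] [q'.IsPrime] (hle : q ≤ q') (htq' : t ∉ q')
    (h : ∀ p : Ideal A, p.IsPrime → q ≤ p → p ≠ maximalIdeal A → t ∉ p) : q' = q := by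
  let R := A ⧸ q
  let mk : A →+* R := Ideal.Quotient.mk q
  have hs : Function.Surjective mk := Ideal.Quotient.mk_surjective
  haveI : Nontrivial R := Ideal.Quotient.nontrivial_iff.2 (Ideal.IsPrime.ne_top inferInstance)
  haveI : IsLocalRing R := IsLocalRing.of_surjective' mk hs
  haveI : IsLocalHom mk := .of_surjective mk hs
  have hk : RingHom.ker mk ≤ q' := by rw [Ideal.mk_ker]; exact hle
  haveI hP : (q'.map mk).IsPrime := Ideal.map_isPrime_of_surjective hs hk
  have hmax : maximalIdeal R = (maximalIdeal A).map mk := by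
    refine (eq_maximalIdeal ?_).symm
    rcases Ideal.map_eq_top_or_isMaximal_of_surjective mk hs (maximalIdeal.isMaximal A) with h0 | h0
    · have : (maximalIdeal A).map mk ≤ maximalIdeal R := Ideal.map_le_iff_le_comap.2 fun a ha hu =>
        ha (isUnit_of_map_unit mk a hu)
      exact absurd (top_le_iff.1 (h0 ▸ this)) (maximalIdeal.isMaximal R).ne_top
    · exact h0
  have hmin : maximalIdeal R ∈ (Ideal.span {mk t}).minimalPrimes := by
    refine ⟨⟨(maximalIdeal.isMaximal R).isPrime, ?_⟩, fun p hp hpm => ?_⟩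
    · rw [Ideal.span_singleton_le_iff_mem, hmax]
      exact Ideal.mem_map_of_mem _ ht
    · haveI : p.IsPrime := hp.1
      by_contra hne
      refine h (p.comap mk) inferInstance (fun a ha => ?_) (fun e => hne ?_)
        (hp.2 (Ideal.mem_span_singleton_self _))
      · show mk a ∈ p
        rw [Ideal.Quotient.eq_zero_iff_mem.2 ha]; exact p.zero_mem
      · rw [hmax, ← e, Ideal.map_comap_of_surjective mk hs]
  have h1 := Ideal.height_le_one_of_isPrincipal_of_mem_minimalPrimes _ _ hmin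
  have hlt : q'.map mk < maximalIdeal R := by
    refine lt_of_le_of_ne (le_maximalIdeal hP.ne_top) fun e => htq' ?_
    have h2 : mk t ∈ q'.map mk := by rw [e, hmax]; exact Ideal.mem_map_of_mem _ ht
    rw [← Ideal.mem_comap, Ideal.comap_map_of_surjective' mk hs, sup_eq_left.2 hk] at h2
    exact h2
  have h0 : (q'.map mk).height = 0 :=
    ENat.lt_one_iff_eq_zero.1 ((Ideal.height_strict_mono_of_isPrime hlt).trans_le h1)
  rw [Ideal.height_eq_zero_iff, IsDomain.minimalPrimes_eq_singleton_bot, Set.mem_singleton_iff,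
    Ideal.map_eq_bot_iff_le_ker, Ideal.mk_ker] at h0
  exact le_antisymm h0 hle

/-- Invertible modules on the punctured divisor extend to the punctured spectrum. -/
theorem picPullbackSurjective [IsLocalRing A] (t : A) (ht : t ∈ maximalIdeal A) (hnzd : t ∈ nonZeroDivisors A)
    [IsAdicComplete (Ideal.span ({t} : Set A)) A]
    (h₁ : Module.Finite A (LocCoh.H (maximalIdeal A) 1 (A ⧸ Ideal.span ({t} : Set A))))
    (h₂ : Module.Finite A (LocCoh.H (maximalIdeal A) 2 (A ⧸ Ideal.span ({t} : Set A))))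
    (h₃ : Subsingleton (LocCoh.H (maximalIdeal A) 3 (A ⧸ Ideal.span ({t} : Set A))))
    (h₅ : ∀ (q : Ideal A) [q.IsPrime], t ∉ q → (∀ (q' : Ideal A), q'.IsPrime → q ≤ q' → t ∉ q' → q' = q) →
      Formal2.PicTrivial (↑(FEt.puncturedSpec (Localization.AtPrime q)) : Scheme.{u}))
    (W : (Spec (CommRingCat.of A)).Opens) (hW : LocCoh.puncturedOpen A (maximalIdeal A) = W) :
    Formal2.PicPullbackSurjective (Formal2.specQuotMap A t ∣_ W) := by
  subst hW
  let W := LocCoh.puncturedOpen A (maximalIdeal A)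
  let f := Formal2.specQuotMap A t
  intro L₀ hL₀
  have hreg : IsSMulRegular A t := fun a b hab =>
    sub_eq_zero.1 ((mem_nonZeroDivisors_iff_left.1 hnzd) (a - b) (by rw [mul_sub, sub_eq_zero]; exact hab))
  obtain ⟨σ, hσ⟩ := exists_iso_thickening_zero t W
  obtain ⟨V, L, g, hg, hL, ⟨ε⟩⟩ := exists_invertible_extension (maximalIdeal A) t hreg h₁ h₂ h₃
    (Ample.isInvertible_pullback σ.inv hL₀)
  have hq : f ∣_ W = σ.hom ≫ g ≫ V.ι := by
    rw [← cancel_mono W.ι, morphismRestrict_ι, hg, Category.assoc, hσ]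
  haveI : IsNoetherianRing (CommRingCat.of A) := inferInstanceAs (IsNoetherianRing A)
  haveI : IsLocallyNoetherian (W : Scheme.{u}) := isLocallyNoetherian_of_isOpenImmersion W.ι
  have hWmem : ∀ p : Spec (CommRingCat.of A), p ∈ W ↔ p.asIdeal ≠ maximalIdeal A := fun p => by
    show p ∈ LocCoh.puncturedOpen A (maximalIdeal A) ↔ _
    rw [SGA2Para.puncturedOpen_eq, SGA2Para.mem_puncturedSpec_iff]
  -- points outside `V` avoid `t`
  have havoid : ∀ x : W, x ∉ V → t ∉ x.1.asIdeal := by
    intro x hx htx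
    have hr : x.1 ∈ Set.range f := by
      show x.1 ∈ Set.range (PrimeSpectrum.comap (Ideal.Quotient.mk (Ideal.span {t})))
      rw [range_comap_of_surjective _ _ Ideal.Quotient.mk_surjective, Ideal.mk_ker,
        PrimeSpectrum.zeroLocus_span]
      exact Set.singleton_subset_iff.2 htx
    obtain ⟨z, hz⟩ := hr
    have hzW : z ∈ f ⁻¹ᵁ W := show f z ∈ W from hz ▸ x.2
    have hx' : (f ∣_ W) ⟨z, hzW⟩ = x := W.ι.isOpenEmbedding.injective (by
      rw [← Scheme.Hom.comp_apply, morphismRestrict_ι]; exact hz)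
    rw [hq, Scheme.Hom.comp_apply, Scheme.Hom.comp_apply] at hx'
    exact hx (hx' ▸ (g (σ.hom ⟨z, hzW⟩)).2)
  have hsp : ∀ x y : W, x ∉ V → x.1.asIdeal ≤ y.1.asIdeal → y ∉ V := fun x y hx hle hy => by
    have h1 : x.1 ⤳ y.1 := (PrimeSpectrum.le_iff_specializes _ _).1 hle
    exact hx ((W.ι.isOpenEmbedding.isInducing.specializes_iff.1 h1).mem_open V.2 hy)
  have hmaxq : ∀ x : W, x ∉ V → ∀ q' : Ideal A, q'.IsPrime → x.1.asIdeal ≤ q' → t ∉ q' → q' = x.1.asIdeal :=
    fun x hx q' hq' hle htq' => eq_of_specializations_avoid ht hle htq' fun p hp hxp hpm => by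
      let p' : Spec (CommRingCat.of A) := ⟨p, hp⟩
      exact havoid ⟨p', (hWmem p').2 hpm⟩ (hsp x _ hx hxp)
  have heq : ∀ x y : W, x ∉ V → x.1.asIdeal ≤ y.1.asIdeal → y = x := fun x y hx hle =>
    Subtype.ext (PrimeSpectrum.ext (hmaxq x hx _ y.1.2 hle (havoid y (hsp x y hx hle))))
  -- there are only finitely many
  have hfin : {x : W | x ∉ V}.Finite := by
    let Z : Set W := {x | x ∉ V}
    let I : Ideal A := PrimeSpectrum.vanishingIdeal (W.ι '' Z)
    refine Set.Finite.of_finite_image (f := fun x : W => x.1.asIdeal)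
      ((Ideal.finite_minimalPrimes_of_isNoetherianRing A I).subset ?_)
      fun a _ b _ hab => Subtype.ext (PrimeSpectrum.ext hab)
    rintro _ ⟨x, hx, rfl⟩
    have hI : I ≤ x.1.asIdeal := fun a ha =>
      (PrimeSpectrum.mem_vanishingIdeal _ _).1 ha x.1 ⟨x, hx, rfl⟩
    obtain ⟨p, hp, hpx⟩ := Ideal.exists_minimalPrimes_le hI
    haveI := hp.1.1
    let p' : Spec (CommRingCat.of A) := ⟨p, hp.1.1⟩
    have hpm : p ≠ maximalIdeal A := fun e => (hWmem x.1).1 x.2
      (le_antisymm (le_maximalIdeal x.1.2.ne_top) (e ▸ hpx))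
    let y : W := ⟨p', (hWmem p').2 hpm⟩
    have hy : y ∈ Z := by
      have hZ : IsClosed Z := V.2.isClosed_compl
      rw [← hZ.closure_eq, W.ι.isOpenEmbedding.isInducing.closure_eq_preimage_closure_image]
      show p' ∈ closure (W.ι '' Z)
      rw [← PrimeSpectrum.zeroLocus_vanishingIdeal_eq_closure]
      exact hp.1.2
    rw [heq y x hy hpx]
    exact hp
  have hclosed : ∀ x : W, x ∉ V → IsClosed ({x} : Set W) := fun x hx => by
    refine closure_subset_iff_isClosed.1 fun y hy => ?_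
    have h1 : x ⤳ y := specializes_iff_mem_closure.2 hy
    exact heq x y hx ((PrimeSpectrum.le_iff_specializes _ _).2 (h1.map W.ι.continuous))
  have hiso : ∀ x : W, x ∉ V → ∃ V' : (W : Scheme.{u}).Opens, IsAffineOpen V' ∧ x ∈ V' ∧
      ∀ y ∈ V', y ∉ V → y = x := by
    intro x hx
    have hc : IsClosed ({y : W | y ∉ V} \ {x}) := by
      rw [← Set.biUnion_of_singleton ({y : W | y ∉ V} \ {x})]
      exact hfin.sdiff.isClosed_biUnion fun y hy => hclosed y hy.1
    obtain ⟨_, ⟨V', hV', rfl⟩, hxV', hV'c⟩ := (W : Scheme.{u}).isBasis_affineOpens.exists_subset_of_mem_open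
      (show x ∈ ({y : W | y ∉ V} \ {x})ᶜ from fun h => h.2 rfl) hc.isOpen_compl
    exact ⟨V', hV', hxV', fun y hy hyV => by_contra fun hne => hV'c hy ⟨hyV, hne⟩⟩
  have hPic : ∀ x : W, x ∉ V →
      ParaF.PicTrivial (FEt.puncturedSpec ((W : Scheme.{u}).presheaf.stalk x) : Scheme.{u}) := by
    intro x hx
    obtain ⟨e⟩ := UFDPunct.nonempty_stalkEquiv x.1
    exact picTrivial_punctured_congr (e.symm.trans (W.stalkIso x).commRingCatIsoToRingEquiv.symm)
      (h₅ x.1.asIdeal (havoid x hx) (hmaxq x hx))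
  obtain ⟨L', hL', ⟨η⟩⟩ := exists_extension_isolated V hL hiso hPic
  refine ⟨L', hL', ⟨?_⟩⟩
  exact (Scheme.Modules.pullbackCongr hq).app L' ≪≫ ((Scheme.Modules.pullbackComp σ.hom (g ≫ V.ι)).app L').symm ≪≫
    (Scheme.Modules.pullback σ.hom).mapIso (((Scheme.Modules.pullbackComp g V.ι).app L').symm ≪≫
      (Scheme.Modules.pullback g).mapIso
        (((Scheme.Modules.restrictFunctorIsoPullback V.ι).app L').symm ≪≫ η) ≪≫ ε) ≪≫
    (Scheme.Modules.pullbackComp σ.hom σ.inv).app L₀ ≪≫
    (Scheme.Modules.pullbackCongr σ.hom_inv_id).app L₀ ≪≫ (Scheme.Modules.pullbackId _).app L₀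

end GrothLib.LocalPic7
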