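import Groth.Agent.Lib.GenT7.LocFreeFinite
import Groth.Agent.Lib.GenT7.LocFreeReg
import Groth.Agent.Lib.GenT7.LeffThree
import Groth.Agent.Lib.DegDet.Stalk

/-!
# Levelwise locally free systems on a punctured spectrum with finite local cohomology algebraize
-/

set_option autoImplicit false
set_option linter.style.haveILetI false
set_option linter.unusedSectionVars false
universe u

open CategoryTheory CategoryTheory.Limits AlgebraicGeometry Opposite TopologicalSpace

noncomputable section

namespace GrothLib.LocalPic7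

open GrothLib.GenT7 GrothLib.FFormal7 GrothLib.FormalFun GrothLib.Algz56 GrothLib.UnifVanish7
open GrothLib.QCoh (stalkLin)

/-- The direct image of a locally free module along a closed immersion cut out by `J` is stalkwise free over `A / J`. -/
theorem stalkFree_push {A : Type u} [CommRing A] {X Z : Scheme.{u}} [X.Over (Spec (CommRingCat.of A))] (J : Ideal A)
    (e : Z ⟶ X) [IsClosedImmersion e] {N : Z.Modules} (hN : FlatMod.IsFinLocFree N)
    (hker : ∀ y : Z, RingHom.ker (e.stalkMap y).hom = J.map (toStalk A (e y))) :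
    StalkFree J 1 ((Scheme.Modules.pushforward e).obj N) := by
  classical
  intro x
  have key : ∀ r, ∃ (π : (FlatMod.freeMod X r).presheaf.stalk x →ₗ[X.presheaf.stalk x]
      (Formal.modPow J 1 (FlatMod.freeMod X r)).presheaf.stalk x)
      (_ : Module.Basis (Fin r) (X.presheaf.stalk x) ((FlatMod.freeMod X r).presheaf.stalk x)),
      Function.Surjective π ∧ LinearMap.ker π = J.map (toStalk A x) • ⊤ := fun r => by
    let p := Formal.modPowπ J 1 (FlatMod.freeMod X r)
    haveI : Epi p := inferInstanceAs (Epi (cokernel.π _))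
    obtain ⟨b⟩ := Euler.stalk_basis_of_frame (DegDet.isFrame_freeSec X r) (show x ∈ (⊤ : X.Opens) from trivial)
    refine ⟨stalkLin p x, b, QCoh.stalkLin_surjective p x, ?_⟩
    rw [ker_stalkLin_of_isQuot (isQuot_modPowπ J 1 (FlatMod.freeMod X r)) x, pow_one]
  by_cases hx : x ∈ Set.range e
  · obtain ⟨y, rfl⟩ := hx
    obtain ⟨U, r, f, hy, hf⟩ := FinCov.exists_frame_nhd hN y
    obtain ⟨bas⟩ := Euler.stalk_basis_of_frame hf hy
    obtain ⟨π, b, hπ, hπk⟩ := key r
    refine ⟨r, ?_⟩
    let σ := (e.stalkMap y).hom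
    have hσ : Function.Surjective σ := e.stalkMap_surjective y
    let φ := QCoh.pushStalkHom e y N
    have hφ := QCoh.pushStalkHom_bijective e y N e.isClosedEmbedding.isInducing
    choose c hc using fun j => hφ.2 (bas j)
    let ψ := b.constr (X.presheaf.stalk (e y)) c
    have hψ : ∀ v, (show N.presheaf.stalk y from φ.hom (ψ v)) = ∑ j, σ (b.repr v j) • bas j := fun v => by
      rw [show ψ v = ∑ j, b.repr v j • c j from b.constr_apply_fintype _ c v]
      refine (map_sum φ.hom _ _).trans (Finset.sum_congr rfl fun j _ => ?_)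
      refine (φ.hom.map_smul _ _).trans ?_
      show σ _ • (show N.presheaf.stalk y from φ.hom (c j)) = _
      rw [hc j]
    have hsurj : Function.Surjective ψ := fun w => by
      choose a ha using fun j => hσ (bas.repr (φ.hom w) j)
      refine ⟨∑ j, a j • b j, hφ.1 ?_⟩
      refine (hψ _).trans (Eq.trans ?_ (bas.sum_repr (φ.hom w)))
      refine Finset.sum_congr rfl fun j _ => ?_
      rw [b.repr_sum_self, ha]
    have hψk : LinearMap.ker ψ = J.map (toStalk A (e y)) • ⊤ := by
      refine le_antisymm (fun v hv => ?_) (Submodule.smul_le.2 fun a ha v _ => ?_)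
      · have h0 : ∑ j, σ (b.repr v j) • bas j = 0 :=
          (hψ v).symm.trans ((congrArg φ.hom (LinearMap.mem_ker.1 hv)).trans (map_zero _))
        rw [← b.sum_repr v]
        refine Submodule.sum_mem _ fun j _ => Submodule.smul_mem_smul ?_ trivial
        rw [← hker y, RingHom.mem_ker]
        exact Fintype.linearIndependent_iff.1 bas.linearIndependent _ h0 j
      · rw [LinearMap.mem_ker, map_smul]
        refine hφ.1 (((φ.hom.map_smul a (ψ v)).trans ?_).trans (map_zero φ.hom).symm)
        show σ a • (show N.presheaf.stalk y from φ.hom (ψ v)) = 0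
        rw [← hker y, RingHom.mem_ker] at ha
        rw [ha, zero_smul]
    exact ⟨(ψ.quotKerEquivOfSurjective hsurj).symm.trans ((Submodule.quotEquivOfEq _ _ (hψk.trans hπk.symm)).trans
      (π.quotKerEquivOfSurjective hπ))⟩
  · obtain ⟨π, b, hπ, -⟩ := key 0
    haveI : Subsingleton (((Scheme.Modules.pushforward e).obj N).presheaf.stalk x) :=
      QCoh.stalk_subsingleton_of_notMem fun hs => hx (QCoh.support_pushforward_subset_range e N hs)
    haveI : Subsingleton ((FlatMod.freeMod X 0).presheaf.stalk x) := b.repr.toEquiv.subsingleton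
    haveI := hπ.subsingleton
    exact ⟨0, ⟨LinearEquiv.ofSubsingleton _ _⟩⟩

variable {A : Type u} [CommRing A] [IsNoetherianRing A] (I : Ideal A) (t : A)

set_option quotPrecheck false
local notation "UU" => LocCoh.puncturedOpen A I

/-- Algebraization of levelwise locally free systems from finiteness of `H¹` and `H²` of `A / t`. -/
theorem exists_algebraization (hreg : IsSMulRegular A t) [IsAdicComplete (Ideal.span ({t} : Set A)) A]
    (h₁ : Module.Finite A (LocCoh.H I 1 (A ⧸ Ideal.span ({t} : Set A))))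
    (h₂ : Module.Finite A (LocCoh.H I 2 (A ⧸ Ideal.span ({t} : Set A))))
    (𝔐 : FSch.ModSys (FSch.completionAlong (UU : Scheme.{u}) (baseIdeal (Ideal.span ({t} : Set A)) (UU : Scheme.{u}))))
    (h𝔐 : LefX.LevelwiseFinLocFree 𝔐) :
    ∃ F : (UU : Scheme.{u}).Modules, Coh.IsCoh F ∧
      Nonempty (FSch.completionMod (baseIdeal (Ideal.span ({t} : Set A)) (UU : Scheme.{u})) F ≅ 𝔐) := by
  let J := Ideal.span ({t} : Set A)
  let X := (UU : Scheme.{u})
  haveI : IsSeparated (X ↘ Spec (CommRingCat.of A)) := inferInstanceAs (IsSeparated (UU).ι)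
  haveI : LocallyOfFiniteType (X ↘ Spec (CommRingCat.of A)) := inferInstanceAs (LocallyOfFiniteType (UU).ι)
  haveI : IsLocallyNoetherian X := isLocallyNoetherian_of_isOpenImmersion (UU).ι
  haveI : CompactSpace X := isCompact_iff_compactSpace.1 (TopologicalSpace.NoetherianSpace.isCompact _)
  haveI : QuasiCompact (X ↘ Spec (CommRingCat.of A)) := inferInstanceAs (QuasiCompact (UU).ι)
  have hcoh : 𝔐.IsCoh := fun n => by
    haveI : IsLocallyNoetherian (lev J X n) := LocallyOfFiniteType.isLocallyNoetherian (levι J X n)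
    exact Euler.isCoh_of_isFinLocFree (h𝔐 n)
  have h := isAdicSys_lev J X
  have hpb := fun k => isPullback_lev J X k
  have hec := levι_eq_sep J (X := X)
  haveI := isClosedImmersion_e hpb 0
  have hG : Formal.IsCohFormal J (pushSys hec 𝔐.e) := isCohFormal_pushSys_sep h hpb hec hcoh 𝔐.e
  have hR : Reg t (pushSys hec 𝔐.e) := reg_pushSys h hpb hec t (Ideal.mem_span_singleton_self t) 𝔐.e
    fun N hN {T} z hz => refine_of_kernel_eq_image _ _ (kernel_eq_image_level I t hreg N hN _ (h𝔐 N)) z hz
  have hk : Formal.KilledBy J (gob (pushSys hec 𝔐.e) 0) := killedBy_zero t (pushSys hec 𝔐.e) hG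
  have hker : ∀ y : lev J X 0, RingHom.ker ((levι J X 0).stalkMap y).hom = J.map (toStalk A (levι J X 0 y)) :=
    fun y => by
      refine (FormalFun.ker_stalkMap_level (tIdeal I t) 0 y).trans ?_
      exact (pow_one _).trans (FormalExist7.stalkIdeal_baseIdeal J _)
  have hfree : StalkFree J 1 (gob (pushSys hec 𝔐.e) 0) := stalkFree_push J (levι J X 0) (h𝔐 0) hker
  obtain ⟨h0, h1⟩ := finite_hh_of_stalkFree I J (gob (pushSys hec 𝔐.e) 0) (hG.1 0) hk hfree h₁ h₂
  obtain ⟨M, hM, ⟨θ⟩⟩ := exists_module_completion (I := I) t (pushSys hec 𝔐.e) hG hR h0 h1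
  obtain ⟨χ, hχ⟩ := exists_compat_of_completion h hpb hec hcoh 𝔐.e M θ
  refine ⟨M, hM, nonempty_completionMod_iso _ M χ fun k => ?_⟩
  exact (hχ k).trans (congrArg (· ≫ (χ k).hom) (complMod_e_hom_sep J M k).symm)

end GrothLib.LocalPic7
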