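import Groth.Agent.Lib.NFlat7.PicStep
import Groth.Agent.Lib.FFormal7.Levels

/-!
# The second cohomology of the steps between the thickenings of a divisor on a punctured spectrum
-/

set_option autoImplicit false
set_option linter.style.haveILetI false

universe u

open CategoryTheory CategoryTheory.Limits AlgebraicGeometry Formal2

noncomputable section

namespace GrothLib.LocalPic7

open GrothLib.PunctSec7 GrothLib.NFlat7

variable {A : Type u} [CommRing A] [IsNoetherianRing A] (𝔞 : Ideal A) (t : A)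

set_option quotPrecheck false
local notation "UU" => LocCoh.puncturedOpen A 𝔞
local notation "J" => Ideal.span ({t} : Set A)

theorem subsingleton_step_two (ht : IsSMulRegular A t) (h : Subsingleton (LocCoh.H 𝔞 3 (A ⧸ J))) (m : ℕ) :
    Subsingleton (Coh.HH (UU : Scheme.{u})
      (kernel (Lef.quotMap (Lef.pow_succ_le ((KI J).comap (UU).ι) m))) 2) := by
  let KU := (KI J).comap (UU).ι
  let ψ := (rW 𝔞).map θ₀ ≫ (Scheme.Modules.restrictUnitIso (UU).ι).hom
  have hχ : ∀ n, ∃ χ : rT 𝔞 (quotPow A J A n) ≅ ClSub.quotMod (KU ^ (n + 1)),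
      rTmap 𝔞 (quotPowπ A J A n) ≫ χ.hom = ψ ≫ ClSub.toSubscheme (KU ^ (n + 1)) := by
    intro n
    obtain ⟨θ, hθb, hθ⟩ := exists_θI J n
    haveI : IsIso θ := by
      rw [Scheme.Modules.Hom.isIso_iff_isIso_app]
      exact fun U => (ConcreteCategory.isIso_iff_bijective _).2 (hθb U)
    have hr := exists_quotMod_restrict (UU : (Spec (CommRingCat.of A)).Opens) ((KI J) ^ (n + 1))
    rw [FSchSys.comap_pow (KI J) (UU).ι (n + 1)] at hr
    obtain ⟨β, hβ⟩ := hr
    refine ⟨(rW 𝔞).mapIso (asIso θ) ≪≫ β, ?_⟩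
    have h1 : rTmap 𝔞 (quotPowπ A J A n) ≫ (rW 𝔞).map θ =
        (rW 𝔞).map θ₀ ≫ (rW 𝔞).map (ClSub.toSubscheme ((KI J) ^ (n + 1))) := by
      rw [← (rW 𝔞).map_comp θ₀, ← hθ, Functor.map_comp]
    rw [Iso.trans_hom, Functor.mapIso_hom, asIso_hom, ← Category.assoc, h1, Category.assoc, hβ, ← Category.assoc]
  choose χ hχ using hχ
  have htr : rTmap 𝔞 (quotPowTrans A J A m) ≫ (χ m).hom = (χ (m + 1)).hom ≫ Lef.quotMap (Lef.pow_succ_le KU m) := by
    haveI : Epi (rTmap 𝔞 (quotPowπ A J A (m + 1))) := by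
      haveI : Epi (ModuleCat.ofHom (R := CommRingCat.of A) (quotPowπ A J A (m + 1))) :=
        (ModuleCat.epi_iff_surjective _).2 (Submodule.mkQ_surjective _)
      haveI : Epi (tilde.map (ModuleCat.ofHom (R := CommRingCat.of A) (quotPowπ A J A (m + 1)))) :=
        inferInstanceAs (Epi ((tilde.functor (CommRingCat.of A)).map
          (ModuleCat.ofHom (R := CommRingCat.of A) (quotPowπ A J A (m + 1)))))
      haveI : (rW 𝔞).PreservesEpimorphisms :=
        Functor.preservesEpimorphisms_of_adjunction (Scheme.Modules.restrictAdjunction (UU).ι)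
      exact Functor.PreservesEpimorphisms.preserves _
    have h1 : rTmap 𝔞 (quotPowπ A J A (m + 1)) ≫ rTmap 𝔞 (quotPowTrans A J A m) = rTmap 𝔞 (quotPowπ A J A m) := by
      refine ((rW 𝔞).map_comp _ _).symm.trans (congrArg (rW 𝔞).map ?_)
      exact (tilde.map_comp _ _).symm.trans (congrArg _ (ModuleCat.hom_ext (LinearMap.ext fun a => rfl)))
    refine (cancel_epi (rTmap 𝔞 (quotPowπ A J A (m + 1)))).1 ?_
    refine (Category.assoc _ _ _).symm.trans ?_
    refine Eq.trans ?_ (Category.assoc _ _ _)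
    refine ((congrArg (· ≫ (χ m).hom) h1).trans (hχ m)).trans ?_
    refine Eq.trans ?_ (congrArg (· ≫ Lef.quotMap (Lef.pow_succ_le KU m)) (hχ (m + 1))).symm
    refine Eq.trans ?_ (Category.assoc _ _ _).symm
    exact congrArg (ψ ≫ ·) (LefEt7.toSubscheme_quotMap _).symm
  -- the kernel as an associated sheaf
  let f : ModuleCat.of (CommRingCat.of A) (quotPow A J A (m + 1)) ⟶ ModuleCat.of (CommRingCat.of A) (quotPow A J A m) :=
    ModuleCat.ofHom (R := CommRingCat.of A) (quotPowTrans A J A m)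
  let K := LinearMap.ker (quotPowTrans A J A m)
  let F := tilde.functor (CommRingCat.of A) ⋙ rW 𝔞
  haveI : PreservesLimitsOfSize.{0, 0} (rW 𝔞) := inferInstance
  haveI : F.PreservesZeroMorphisms := inferInstance
  let e1 : kernel (Lef.quotMap (Lef.pow_succ_le KU m)) ≅ kernel (F.map f) :=
    (kernel.mapIso (F.map f) (Lef.quotMap (Lef.pow_succ_le KU m)) (χ (m + 1)) (χ m) htr).symm
  let e2 : kernel (F.map f) ≅ rT 𝔞 K :=
    (PreservesKernel.iso F f).symm ≪≫ F.mapIso (ModuleCat.kernelIsoKer f)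
  let ν : A →ₗ[A] K := LinearMap.codRestrict K ((quotPowπ A J A (m + 1)).comp (LinearMap.mulLeft A (t ^ (m + 1))))
    fun a => by
      refine LinearMap.mem_ker.2 ((Submodule.Quotient.mk_eq_zero _).2 ?_)
      rw [smul_eq_mul, Ideal.mul_top, Ideal.span_singleton_pow]
      exact Ideal.mem_span_singleton.2 (dvd_mul_right _ _)
  have hνs : Function.Surjective ν := fun x => by
    obtain ⟨a, ha⟩ := Submodule.mkQ_surjective _ x.1
    have hx : quotPowTrans A J A m x.1 = 0 := x.2
    rw [← ha] at hx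
    have hm := (Submodule.Quotient.mk_eq_zero _).1 hx
    rw [smul_eq_mul, Ideal.mul_top, Ideal.span_singleton_pow, Ideal.mem_span_singleton] at hm
    obtain ⟨c, hc⟩ := hm
    refine ⟨c, Subtype.ext ?_⟩
    rw [← ha]
    exact congrArg (Submodule.mkQ _) hc.symm
  have hνk : LinearMap.ker ν = (J : Submodule A A) := by
    ext a
    rw [LinearMap.mem_ker, Subtype.ext_iff]
    refine (Submodule.Quotient.mk_eq_zero _).trans ?_
    rw [smul_eq_mul, Ideal.mul_top, Ideal.span_singleton_pow, Ideal.mem_span_singleton]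
    constructor
    · rintro ⟨c, hc⟩
      refine Ideal.mem_span_singleton.2 ⟨c, (ht.pow (m + 1)) ?_⟩
      show t ^ (m + 1) * a = t ^ (m + 1) * (t * c)
      rw [← mul_assoc, ← pow_succ]
      exact hc
    · intro ha
      obtain ⟨c, rfl⟩ := Ideal.mem_span_singleton.1 ha
      refine ⟨c, ?_⟩
      show t ^ (m + 1) * (t * c) = _
      rw [← mul_assoc, ← pow_succ]
  let q : ModuleCat.of (CommRingCat.of A) (A ⧸ J) ≅ ModuleCat.of (CommRingCat.of A) K :=
    (((Submodule.quotEquivOfEq _ _ hνk.symm).trans (ν.quotKerEquivOfSurjective hνs))).toModuleIso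
  let e : kernel (Lef.quotMap (Lef.pow_succ_le KU m)) ≅ rT 𝔞 (A ⧸ J) := e1 ≪≫ e2 ≪≫ F.mapIso q.symm
  refine subsingleton_of_forall_eq 0 fun x => ?_
  have hx : ∀ y : Coh.HH (UU : Scheme.{u}) (rT 𝔞 (A ⧸ J)) 2, y = 0 := fun y => by
    have := hh_killed 𝔞 (A ⧸ J) 1 (1 : A) (fun z => Subsingleton.elim _ _) y
    rwa [one_smul] at this
  have h1 := congrArg (Cohom.hhMap A e.inv 2) (hx (Cohom.hhMap A e.hom 2 x))
  rwa [FormalFun.hhMap_comp, Iso.hom_inv_id, FormalFun.hhMap_id, map_zero] at h1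

theorem KI_comap : (KI J).comap (UU).ι = FFormal7.baseIdeal J (UU : Scheme.{u}) := rfl

end GrothLib.LocalPic7
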