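import Groth.Agent.Lib.LocalPic7.Fin0
import Groth.Agent.Lib.LocalPic7.Step2
import Groth.Agent.Lib.SGA2Para.Sheaf
import Groth.Agent.Lib.LefPic7.Bij
import Groth.Prelude.Def_Formal2

/-!
# Invertible modules on a punctured divisor extend to neighbourhoods
-/

set_option autoImplicit false
set_option linter.style.haveILetI false

universe u

open CategoryTheory CategoryTheory.Limits AlgebraicGeometry IsLocalRing

noncomputable section

namespace GrothLib.LocalPic7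

open GrothLib.GenT7 GrothLib.FFormal7 GrothLib.LefPic7

variable {A : Type u} [CommRing A]

/-- The punctured divisor is the zeroth thickening on the punctured spectrum. -/
theorem exists_iso_thickening_zero (t : A) (W : (Spec (CommRingCat.of A)).Opens) :
    ∃ σ : (↑(Formal2.specQuotMap A t ⁻¹ᵁ W) : Scheme.{u}) ≅
        ((baseIdeal (Ideal.span ({t} : Set A)) (W : Scheme.{u})) ^ (0 + 1)).subscheme,
      σ.hom ≫ ((baseIdeal (Ideal.span ({t} : Set A)) (W : Scheme.{u})) ^ (0 + 1)).subschemeι ≫ W.ι =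
        (Formal2.specQuotMap A t ⁻¹ᵁ W).ι ≫ Formal2.specQuotMap A t := by
  let f := Formal2.specQuotMap A t
  haveI : IsClosedImmersion f := IsClosedImmersion.spec_of_surjective _ Ideal.Quotient.mk_surjective
  let q := f ∣_ W
  haveI : IsClosedImmersion q := IsZariskiLocalAtTarget.restrict (P := @IsClosedImmersion) inferInstance W
  let K := (baseIdeal (Ideal.span ({t} : Set A)) (W : Scheme.{u})) ^ (0 + 1)
  have hK : K = f.ker.comap W.ι := pow_one _
  have hq : q ≫ W.ι = (f ⁻¹ᵁ W).ι ≫ f := morphismRestrict_ι f W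
  let a : (↑(f ⁻¹ᵁ W) : Scheme.{u}) ⟶ K.subscheme := IsClosedImmersion.lift K.subschemeι q (by
    rw [Scheme.IdealSheafData.ker_subschemeι, hK, ← Scheme.IdealSheafData.le_map_iff_comap_le,
      Scheme.IdealSheafData.map_ker, hq]
    exact Scheme.Hom.le_ker_comp _ _)
  have ha : a ≫ K.subschemeι = q := IsClosedImmersion.lift_fac _ _ _
  let b₀ : K.subscheme ⟶ Spec (CommRingCat.of (A ⧸ Ideal.span ({t} : Set A))) :=
    IsClosedImmersion.lift f (K.subschemeι ≫ W.ι) (by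
      rw [← Scheme.IdealSheafData.map_ker, Scheme.IdealSheafData.le_map_iff_comap_le,
        Scheme.IdealSheafData.ker_subschemeι, hK])
  have hb₀ : b₀ ≫ f = K.subschemeι ≫ W.ι := IsClosedImmersion.lift_fac _ _ _
  have hpb := isPullback_morphismRestrict f W
  let b : K.subscheme ⟶ (↑(f ⁻¹ᵁ W) : Scheme.{u}) := hpb.lift K.subschemeι b₀ hb₀.symm
  have hb : b ≫ q = K.subschemeι := hpb.lift_fst _ _ _
  refine ⟨⟨a, b, ?_, ?_⟩, ?_⟩
  · rw [← cancel_mono q, Category.assoc, hb, ha, Category.id_comp]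
  · rw [← cancel_mono K.subschemeι, Category.assoc, ha, hb, Category.id_comp]
  · exact (Category.assoc _ _ _).symm.trans ((congrArg (· ≫ W.ι) ha).trans hq)

variable [IsNoetherianRing A]

/-- The thickening extends to a neighbourhood. -/
theorem exists_invertible_extension (I : Ideal A) (t : A) (hreg : IsSMulRegular A t)
    [IsAdicComplete (Ideal.span ({t} : Set A)) A]
    (h₁ : Module.Finite A (LocCoh.H I 1 (A ⧸ Ideal.span ({t} : Set A))))
    (h₂ : Module.Finite A (LocCoh.H I 2 (A ⧸ Ideal.span ({t} : Set A))))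
    (h₃ : Subsingleton (LocCoh.H I 3 (A ⧸ Ideal.span ({t} : Set A))))
    {N : (((baseIdeal (Ideal.span ({t} : Set A)) (LocCoh.puncturedOpen A I : Scheme.{u})) ^ (0 + 1)).subscheme).Modules}
    (hN : PicF.IsInvertible N) :
    ∃ (V : (LocCoh.puncturedOpen A I : Scheme.{u}).Opens) (L : (V : Scheme.{u}).Modules)
      (g : ((baseIdeal (Ideal.span ({t} : Set A)) (LocCoh.puncturedOpen A I : Scheme.{u})) ^ (0 + 1)).subscheme ⟶ V),
      g ≫ V.ι = ((baseIdeal (Ideal.span ({t} : Set A)) (LocCoh.puncturedOpen A I : Scheme.{u})) ^ (0 + 1)).subschemeι ∧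
        PicF.IsInvertible L ∧ Nonempty ((Scheme.Modules.pullback g).obj L ≅ N) := by
  let X := (LocCoh.puncturedOpen A I : Scheme.{u})
  let 𝓘 := baseIdeal (Ideal.span ({t} : Set A)) X
  haveI : IsLocallyNoetherian X := isLocallyNoetherian_of_isOpenImmersion (LocCoh.puncturedOpen A I).ι
  have hs : ∀ m, 0 ≤ m → Function.Surjective (Cube.pull (step 𝓘 m)) := fun m _ =>
    pull_surjective_step 𝓘 m (subsingleton_step_two I t hreg h₃ m)
  obtain ⟨𝔐, hinv, ⟨eN⟩⟩ := exists_system 𝓘 0 hs hN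
  have hfree : LefX.LevelwiseFinLocFree 𝔐 := fun m => Euler.isFinLocFree_of_isInvertible (hinv m)
  obtain ⟨F, hF, ⟨e⟩⟩ := exists_algebraization I t hreg h₁ h₂ 𝔐 hfree
  obtain ⟨U, E, hU, hE, ⟨ε⟩⟩ := exists_nhd_bundle 𝓘 𝔐 hfree hF e
  let g : (𝓘 ^ (0 + 1)).subscheme ⟶ U := IsOpenImmersion.lift U.ι (𝓘 ^ (0 + 1)).subschemeι (by
    rw [Scheme.Opens.range_ι, (𝓘 ^ (0 + 1)).range_subschemeι, Scheme.IdealSheafData.support_pow_succ]
    exact hU)
  have hg : g ≫ U.ι = (𝓘 ^ (0 + 1)).subschemeι := IsOpenImmersion.lift_fac _ _ _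
  obtain ⟨δ⟩ := nonempty_pullback_push g hg E
  let ε0 : (Scheme.Modules.pullback g).obj E ≅ 𝔐.F 0 :=
    δ.symm ≪≫ ⟨ε.hom.app 0, ε.inv.app 0, congrArg (fun k => FSch.ModSys.Hom.app k 0) ε.hom_inv_id,
      congrArg (fun k => FSch.ModSys.Hom.app k 0) ε.inv_hom_id⟩
  obtain ⟨V, hVU, g', hg', hL⟩ := exists_invertible_nhd g hE (ParaPair.isInvertible_of_iso ε0 (hinv 0))
  refine ⟨V, _, g', ?_, hL, ⟨(Scheme.Modules.pullbackComp g' (X.homOfLE hVU)).app E ≪≫
    (Scheme.Modules.pullbackCongr hg').app E ≪≫ ε0 ≪≫ eN⟩⟩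
  rw [← hg, ← hg', Category.assoc, Scheme.homOfLE_ι]

/-- Invertible modules on the punctured divisor extend to opens containing it. -/
theorem exists_extension_neighbourhood [IsLocalRing A] (t : A) (hnzd : t ∈ nonZeroDivisors A)
    [IsAdicComplete (Ideal.span ({t} : Set A)) A]
    (h₁ : Module.Finite A (LocCoh.H (maximalIdeal A) 1 (A ⧸ Ideal.span ({t} : Set A))))
    (h₂ : Module.Finite A (LocCoh.H (maximalIdeal A) 2 (A ⧸ Ideal.span ({t} : Set A))))
    (h₃ : Subsingleton (LocCoh.H (maximalIdeal A) 3 (A ⧸ Ideal.span ({t} : Set A))))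
    (W : (Spec (CommRingCat.of A)).Opens) (hW : LocCoh.puncturedOpen A (maximalIdeal A) = W)
    (L₀ : (↑(Formal2.specQuotMap A t ⁻¹ᵁ W) : Scheme.{u}).Modules) (hL₀ : PicF.IsInvertible L₀) :
    ∃ (U' : (Spec (CommRingCat.of A)).Opens) (_ : U' ≤ W)
      (h : Formal2.specQuotMap A t ⁻¹ᵁ W ≤ Formal2.specQuotMap A t ⁻¹ᵁ U')
      (L : (↑U' : Scheme.{u}).Modules), PicF.IsInvertible L ∧
        Nonempty ((Scheme.Modules.pullback ((Formal2.specQuotMap A t).resLE U' _ h)).obj L ≅ L₀) := by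
  subst hW
  let W := LocCoh.puncturedOpen A (maximalIdeal A)
  let f := Formal2.specQuotMap A t
  have hreg : IsSMulRegular A t := fun a b hab =>
    sub_eq_zero.1 ((mem_nonZeroDivisors_iff_left.1 hnzd) (a - b) (by rw [mul_sub, sub_eq_zero]; exact hab))
  obtain ⟨σ, hσ⟩ := exists_iso_thickening_zero t W
  obtain ⟨V, L, g, hg, hL, ⟨ε⟩⟩ := exists_invertible_extension (maximalIdeal A) t hreg h₁ h₂ h₃
    (Ample.isInvertible_pullback σ.inv hL₀)
  let j := W.ι.isoImage V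
  have hj : j.hom ≫ (W.ι ''ᵁ V).ι = V.ι ≫ W.ι := Scheme.Hom.isoImage_hom_ι _ _
  let φ : (↑(f ⁻¹ᵁ W) : Scheme.{u}) ⟶ (↑(W.ι ''ᵁ V) : Scheme.{u}) := σ.hom ≫ g ≫ j.hom
  have hφ : φ ≫ (W.ι ''ᵁ V).ι = (f ⁻¹ᵁ W).ι ≫ f := by
    rw [← hσ, ← hg]
    simp only [φ, Category.assoc, hj]
  have h : f ⁻¹ᵁ W ≤ f ⁻¹ᵁ (W.ι ''ᵁ V) := by
    intro x hx
    show f x ∈ W.ι ''ᵁ V
    have := congrArg (fun k : (↑(f ⁻¹ᵁ W) : Scheme.{u}) ⟶ Spec (CommRingCat.of A) => k ⟨x, hx⟩) hφ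
    rw [Scheme.Hom.comp_apply, Scheme.Hom.comp_apply] at this
    exact this ▸ (φ ⟨x, hx⟩).2
  have hres : f.resLE (W.ι ''ᵁ V) _ h = φ := by
    rw [← cancel_mono (W.ι ''ᵁ V).ι, Scheme.Hom.resLE_comp_ι, hφ]
  refine ⟨W.ι ''ᵁ V, W.ι_image_le V, h, (Scheme.Modules.pullback j.inv).obj L,
    Ample.isInvertible_pullback j.inv hL, ⟨?_⟩⟩
  exact (Scheme.Modules.pullbackComp _ j.inv).app L ≪≫
    (Scheme.Modules.pullbackCongr (show f.resLE (W.ι ''ᵁ V) _ h ≫ j.inv = σ.hom ≫ g by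
      rw [hres]; simp [φ])).app L ≪≫
    ((Scheme.Modules.pullbackComp σ.hom g).app L).symm ≪≫ (Scheme.Modules.pullback σ.hom).mapIso ε ≪≫
    (Scheme.Modules.pullbackComp σ.hom σ.inv).app L₀ ≪≫
    (Scheme.Modules.pullbackCongr σ.hom_inv_id).app L₀ ≪≫ (Scheme.Modules.pullbackId _).app L₀

end GrothLib.LocalPic7
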